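import Cfsg.Agent.H61.CritA6.Rel
import Cfsg.Prelude.Def_Transfer

/-! A group with all element orders at most five having a minimal normal elementary abelian 2-subgroup
with quotient `A₅` satisfies the relations of `F₄² ⋊ SL₂(F₄)`. -/

set_option autoImplicit false
set_option maxRecDepth 10000

namespace H61.CritA6

open Equiv

abbrev A5 := ↥(alternatingGroup (Fin 5))

def aH : A5 := ⟨swap 0 1 * swap 1 2, Equiv.Perm.mem_alternatingGroup.2 (by decide)⟩
def aT : A5 := ⟨swap 0 3 * swap 1 2, Equiv.Perm.mem_alternatingGroup.2 (by decide)⟩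
def aW : A5 := ⟨swap 1 2 * swap 3 4, Equiv.Perm.mem_alternatingGroup.2 (by decide)⟩

theorem a5_facts : aH ^ 3 = 1 ∧ aH ≠ 1 ∧ aT ≠ 1 ∧ aT * aT = 1 ∧ aW * aW = 1 ∧ aW * aH * aW⁻¹ = aH⁻¹ ∧
    aH * aT * aH⁻¹ ≠ aT ∧ (aT * aH) ^ 3 = 1 ∧ (aT * aH) ≠ 1 ∧ (aT * aH⁻¹) ^ 3 = 1 ∧ (aT * aH⁻¹) ≠ 1 ∧
    (aW * aT) ^ 3 = 1 ∧ aW * aT ≠ 1 ∧
    aH * (aH * aT * aH⁻¹) * aH⁻¹ = aT * (aH * aT * aH⁻¹) := by decide +kernel

theorem a5_conj : ∃ c : A5, c * aW * c⁻¹ = aT := by decide +kernel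

variable {G : Type*} [Group G] [Finite G]

/-- The hypothesis: orders at most five, kernel a minimal normal elementary abelian 2-group. -/
structure Data (G : Type*) [Group G] where
  π : G →* A5
  surj : Function.Surjective π
  le5 : ∀ g : G, orderOf g ≤ 5
  comm : IsMulCommutative π.ker
  sq : ∀ a ∈ π.ker, a ^ 2 = 1
  ne : π.ker ≠ ⊥

theorem Data.order3 (d : Data G) {g : G} (h3 : d.π g ^ 3 = 1) (h1 : d.π g ≠ 1) : g ^ 3 = 1 := by
  haveI : Fact (Nat.Prime 3) := ⟨Nat.prime_three⟩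
  have h : orderOf (d.π g) = 3 := orderOf_eq_prime h3 h1
  have hd : 3 ∣ orderOf g := h ▸ orderOf_map_dvd d.π g
  have h5 := d.le5 g
  have hp := orderOf_pos g
  have he : orderOf g = 3 := by
    obtain ⟨k, hk⟩ := hd
    have : k = 1 := by omega
    omega
  rw [← he]
  exact pow_orderOf_eq_one g

theorem Data.commK (d : Data G) {a b : G} (ha : a ∈ d.π.ker) (hb : b ∈ d.π.ker) : Commute a b := by
  have := d.comm
  exact congrArg Subtype.val ((this.is_comm).comm (⟨a, ha⟩ : d.π.ker) ⟨b, hb⟩)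

theorem Data.inv_eq (d : Data G) {a : G} (ha : a ∈ d.π.ker) : a⁻¹ = a :=
  inv_eq_of_mul_eq_one_right (show a * a = 1 from (pow_two a).symm.trans (d.sq a ha))

theorem Data.mul_self (d : Data G) {a : G} (ha : a ∈ d.π.ker) : a * a = 1 := (pow_two a).symm.trans (d.sq a ha)

theorem Data.fpf (d : Data G) {g n : G} (h3 : d.π g ^ 3 = 1) (h1 : d.π g ≠ 1) (hn : n ∈ d.π.ker)
    (hc : Commute g n) : n = 1 := by
  by_contra hne
  haveI : Fact (Nat.Prime 3) := ⟨Nat.prime_three⟩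
  haveI : Fact (Nat.Prime 2) := ⟨Nat.prime_two⟩
  have hg : g ≠ 1 := fun e => h1 (by rw [e, map_one])
  have e1 : orderOf g = 3 := orderOf_eq_prime (d.order3 h3 h1) hg
  have e2 : orderOf n = 2 := orderOf_eq_prime (d.sq n hn) hne
  have e6 : orderOf (g * n) = 6 := by
    rw [hc.orderOf_mul_eq_mul_orderOf_of_coprime (by rw [e1, e2]; decide), e1, e2]
  have := d.le5 (g * n)
  omega

theorem Data.norm_ker (d : Data G) (g : G) {n : G} (hn : n ∈ d.π.ker) : g * n * g⁻¹ ∈ d.π.ker :=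
  (MonoidHom.normal_ker d.π).conj_mem n hn g

theorem Data.sum3 (d : Data G) {g n : G} (h3 : d.π g ^ 3 = 1) (h1 : d.π g ≠ 1) (hn : n ∈ d.π.ker) :
    g * (g * n * g⁻¹) * g⁻¹ = n * (g * n * g⁻¹) := by
  have hg3 := d.order3 h3 h1
  have k1 := d.norm_ker g hn
  have k2 := d.norm_ker g k1
  set a := g * n * g⁻¹ with ha
  set b := g * a * g⁻¹ with hb
  have hb' : g * b * g⁻¹ = n := by
    have e : g * b * g⁻¹ = g ^ 3 * n * (g ^ 3)⁻¹ := by rw [hb, ha, pow_three]; group
    rw [e, hg3]; simp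
  have hs : n * a * b ∈ d.π.ker := mul_mem (mul_mem hn k1) k2
  have hfix : g * (n * a * b) * g⁻¹ = n * a * b := by
    rw [show g * (n * a * b) * g⁻¹ = (g * n * g⁻¹) * (g * a * g⁻¹) * (g * b * g⁻¹) by group, ← ha,
      ← hb, hb', (d.commK (mul_mem k1 k2) hn).eq, ← mul_assoc]
  have hc : Commute g (n * a * b) := mul_inv_eq_iff_eq_mul.1 hfix
  have h0 := d.fpf h3 h1 hs hc
  calc b = (n * a)⁻¹ := (inv_eq_of_mul_eq_one_right h0).symm
    _ = n * a := d.inv_eq (mul_mem hn k1)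

theorem Data.conj_lift (d : Data G) {g g' : G} (h3 : d.π g ^ 3 = 1) (h1 : d.π g ≠ 1)
    (he : d.π g' = d.π g) : ∃ n ∈ d.π.ker, n * g' * n⁻¹ = g := by
  let f : d.π.ker → {x : G // d.π x = d.π g} := fun n =>
    ⟨n.1 * g' * n.1⁻¹, by
      rw [map_mul, map_mul, map_inv, MonoidHom.mem_ker.1 n.2, he]; simp⟩
  have hinj : Function.Injective f := by
    intro m n e
    have e' : m.1 * g' * m.1⁻¹ = n.1 * g' * n.1⁻¹ := congrArg Subtype.val e
    have hc : Commute g' (m.1⁻¹ * n.1) := by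
      unfold Commute SemiconjBy
      calc g' * (m.1⁻¹ * n.1) = m.1⁻¹ * (m.1 * g' * m.1⁻¹) * n.1 := by group
        _ = m.1⁻¹ * n.1 * g' := by rw [e']; group
    have := d.fpf (he ▸ h3) (he ▸ h1) (mul_mem (inv_mem m.2) n.2) hc
    exact Subtype.ext (inv_mul_eq_one.1 this)
  let ψ : {x : G // d.π x = d.π g} → d.π.ker := fun x =>
    ⟨x.1 * g⁻¹, by rw [MonoidHom.mem_ker, map_mul, map_inv, x.2, mul_inv_cancel]⟩
  have hψ : Function.Injective ψ := fun x y e =>
    Subtype.ext (mul_right_cancel (congrArg Subtype.val e))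
  have hsur : Function.Surjective f :=
    ((Finite.injective_iff_bijective (f := fun n => ψ (f n))).1 (hψ.comp hinj)).2.of_comp_left hψ
  obtain ⟨n, hn⟩ := hsur ⟨g, rfl⟩
  exact ⟨n.1, n.2, congrArg Subtype.val hn⟩

/-- The relations hold for suitable lifts, with a translation generating nontrivially. -/
theorem Data.exists_rel (d : Data G) : ∃ h t w v : G, Rel h t w v ∧ d.π h = aH ∧ d.π t = aT ∧
    d.π w = aW ∧ v ∈ d.π.ker ∧ v ≠ 1 := by
  obtain ⟨fh3, fh1, ft1, ftt, fww, fwh, fht, fth3, fth1, fti3, fti1, fwt3, fwt1, fhh⟩ := a5_facts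
  obtain ⟨h, hh⟩ := d.surj aH
  have hh3 : h ^ 3 = 1 := d.order3 (hh ▸ fh3) (hh ▸ fh1)
  obtain ⟨w0, hw0⟩ := d.surj aW
  have hinv : d.π h⁻¹ = aH⁻¹ := by rw [map_inv, hh]
  obtain ⟨n, hn, hne⟩ := d.conj_lift (g := h⁻¹) (g' := w0 * h * w0⁻¹)
    (by rw [hinv, inv_pow, fh3, inv_one]) (by rw [hinv]; simpa using fh1)
    (by rw [map_mul, map_mul, map_inv, hw0, hh, hinv, fwh])
  set w := n * w0 with hwdef
  have hw : d.π w = aW := by rw [hwdef, map_mul, MonoidHom.mem_ker.1 hn, one_mul, hw0]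
  have hwh : w * h * w⁻¹ = h⁻¹ := by rw [← hne, hwdef]; group
  have hw2 : w * w = 1 := by
    apply d.fpf (g := h) (hh ▸ fh3) (hh ▸ fh1) (by rw [MonoidHom.mem_ker, map_mul, hw, fww])
    have e2 : w * w * h * (w * w)⁻¹ = h := by
      calc w * w * h * (w * w)⁻¹ = w * (w * h * w⁻¹) * w⁻¹ := by group
        _ = h := by rw [hwh, show w * h⁻¹ * w⁻¹ = (w * h * w⁻¹)⁻¹ by group, hwh, inv_inv]
    exact (mul_inv_eq_iff_eq_mul.1 e2).symm
  have hwi : w⁻¹ = w := inv_eq_of_mul_eq_one_right hw2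
  obtain ⟨c, hc⟩ := a5_conj
  obtain ⟨c', hc'⟩ := d.surj c
  set t := c' * w * c'⁻¹ with htdef
  have ht : d.π t = aT := by rw [htdef, map_mul, map_mul, map_inv, hw, hc', hc]
  have ht2 : t * t = 1 := by
    rw [htdef, show c' * w * c'⁻¹ * (c' * w * c'⁻¹) = c' * (w * w) * c'⁻¹ by group, hw2]; group
  have hti : t⁻¹ = t := inv_eq_of_mul_eq_one_right ht2
  set t1 := h * t * h⁻¹ with ht1def
  set t2 := h * t1 * h⁻¹ with ht2def
  have A1 : t * t1 * t2 = 1 := by
    have e := d.order3 (g := t * h) (by rw [map_mul, ht, hh, fth3]) (by rw [map_mul, ht, hh]; exact fth1)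
    rw [ht2def, ht1def]
    calc t * (h * t * h⁻¹) * (h * (h * t * h⁻¹) * h⁻¹) = (t * h) ^ 3 * (h ^ 3)⁻¹ := by rw [pow_three, pow_three]; group
      _ = 1 := by rw [e, hh3]; group
  have A2 : t * t2 * t1 = 1 := by
    have e := d.order3 (g := t * h⁻¹) (by rw [map_mul, ht, hinv, fti3])
      (by rw [map_mul, ht, hinv]; exact fti1)
    rw [ht2def, ht1def]
    calc t * (h * (h * t * h⁻¹) * h⁻¹) * (h * t * h⁻¹)
        = t * (h ^ 3 * h⁻¹) * t * (h⁻¹ * t * h⁻¹) := by rw [pow_three]; group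
      _ = (t * h⁻¹) ^ 3 := by rw [hh3, pow_three]; group
      _ = 1 := e
  have ht1i : t1⁻¹ = t1 := by rw [ht1def, mul_inv_rev, mul_inv_rev, hti, inv_inv, ← mul_assoc]
  have ht2i : t2⁻¹ = t2 := by rw [ht2def, mul_inv_rev, mul_inv_rev, ht1i, inv_inv, ← mul_assoc]
  have e12 : t1 * t2 = t := by
    rw [mul_assoc] at A1; rw [← inv_eq_of_mul_eq_one_right A1, hti]
  have e21 : t2 * t1 = t := by
    rw [mul_assoc] at A2; rw [← inv_eq_of_mul_eq_one_right A2, hti]
  have htt : Commute t t1 := by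
    unfold Commute SemiconjBy
    calc t * t1 = t1 * t2 * t1 := by rw [e12]
      _ = t1 * t := by rw [mul_assoc, e21]
  have hT2 : t2 = t * t1 := by
    rw [← e21, mul_assoc, show t1 * t1 = 1 by nth_rewrite 1 [← ht1i]; exact inv_mul_cancel t1, mul_one]
  have hwtw : w * t * w = t * w * t := by
    have e := d.order3 (g := w * t) (by rw [map_mul, hw, ht, fwt3]) (by rw [map_mul, hw, ht]; exact fwt1)
    have e' : (w * t * w) * (t * w * t) = 1 := by rw [← e, pow_three]; group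
    rw [eq_inv_of_mul_eq_one_left e', mul_inv_rev (t * w) t, mul_inv_rev t w, hwi, hti, ← mul_assoc]
  -- a nontrivial translation fixed by `t` and `t1`
  obtain ⟨x, hx, hx1⟩ := (Subgroup.ne_bot_iff_exists_ne_one.1 d.ne).imp'
    (p := fun x => x ≠ 1) (q := fun x : G => x ∈ d.π.ker ∧ x ≠ 1) (fun x => x.1)
    (fun a ha => ⟨a.2, fun e => ha (Subtype.ext e)⟩)
  have step : ∀ s : G, s * s = 1 → ∀ x ∈ d.π.ker, x ≠ 1 →
      ∃ y ∈ d.π.ker, y ≠ 1 ∧ Commute s y ∧ ∀ r : G, Commute r s → Commute r x → Commute r y := by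
    intro s hs x hx hx1
    have hsi : s⁻¹ = s := inv_eq_of_mul_eq_one_right hs
    by_cases hs' : Commute s x
    · exact ⟨x, hx, hx1, hs', fun r _ hr => hr⟩
    · have k : s * x * s ∈ d.π.ker := by simpa [hsi] using d.norm_ker s hx
      refine ⟨x * (s * x * s), mul_mem hx k, fun e => hs' ?_, ?_, fun r hr1 hr2 => ?_⟩
      · have : s * x * s = x := by
          rw [← inv_eq_of_mul_eq_one_right e, d.inv_eq hx]
        calc s * x = s * x * (s * s) := by rw [hs, mul_one]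
          _ = x * s := by rw [← mul_assoc, this]
      · show s * (x * (s * x * s)) = x * (s * x * s) * s
        rw [(d.commK hx k).eq]
        calc s * (s * x * s * x) = (s * s) * x * s * x := by group
          _ = x * s * x := by rw [hs, one_mul]
          _ = x * s * x * (s * s) := by rw [hs, mul_one]
          _ = _ := by rw [← (d.commK hx k).eq]; group
      · exact hr2.mul_right ((hr1.mul_right hr2).mul_right hr1)
  obtain ⟨y, hy, hy1, hty, -⟩ := step t ht2 x hx hx1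
  obtain ⟨v, hv, hv1, ht1v, hkeep⟩ := step t1 (by nth_rewrite 1 [← ht1i]; exact inv_mul_cancel t1)
    y hy hy1
  have htv : Commute t v := hkeep t htt hty
  have k1 : h * v * h⁻¹ ∈ d.π.ker := d.norm_ker h hv
  have kw : w * v * w ∈ d.π.ker := by simpa [hwi] using d.norm_ker w hv
  have kw1 : w * (h * v * h⁻¹) * w ∈ d.π.ker := by simpa [hwi] using d.norm_ker w k1
  have hs3 := d.sum3 (g := h) (hh ▸ fh3) (hh ▸ fh1) hv
  have htv1 : Commute t (h * v * h⁻¹) := by
    have ht2v : Commute t2 v := by rw [hT2]; exact htv.mul_left ht1v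
    have e : t = h * t2 * h⁻¹ := by
      rw [ht2def, ht1def]
      calc t = h ^ 3 * t * (h ^ 3)⁻¹ := by rw [hh3]; simp
        _ = _ := by rw [pow_three]; group
    unfold Commute SemiconjBy
    nth_rewrite 1 [e]
    rw [show h * t2 * h⁻¹ * (h * v * h⁻¹) = h * (t2 * v) * h⁻¹ by group, ht2v.eq,
      show h * (v * t2) * h⁻¹ = h * v * h⁻¹ * (h * t2 * h⁻¹) by group, ← e]
  have hmove : ∀ z ∈ d.π.ker, Commute t z → t * (w * z * w) * t = (w * z * w) * z := by
    intro z hz htz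
    have kz : w * z * w ∈ d.π.ker := by simpa [hwi] using d.norm_ker w hz
    have h3g : d.π (t * w) ^ 3 = 1 := by
      rw [map_mul, ht, hw]
      have : (aT * aW) = aT * (aW * aT) * aT⁻¹ := by group
      rw [this, conj_pow, fwt3]; group
    have h1g : d.π (t * w) ≠ 1 := by
      rw [map_mul, ht, hw]
      intro e
      exact fwt1 (mul_eq_one_comm.1 e)
    have e := d.sum3 (g := t * w) h3g h1g hz
    have ea : t * w * z * (t * w)⁻¹ = t * (w * z * w) * t := by rw [mul_inv_rev, hti, hwi]; group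
    have eb : t * w * (t * (w * z * w) * t) * (t * w)⁻¹ = w * z * w := by
      rw [mul_inv_rev, hti, hwi]
      calc t * w * (t * (w * z * w) * t) * (w * t) = t * (w * t * w) * z * (w * t * w) * t := by group
        _ = (t * t) * w * (t * z) * t * w * (t * t) := by rw [hwtw]; group
        _ = w * (z * (t * t)) * w := by rw [ht2, htz.eq]; simp only [one_mul, mul_one, mul_assoc, ht2]
        _ = w * z * w := by rw [ht2, mul_one]
    rw [ea, eb] at e
    calc t * (w * z * w) * t = z * (z * (t * (w * z * w) * t)) := by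
          rw [← mul_assoc z z, d.mul_self hz, one_mul]
      _ = z * (w * z * w) := by rw [← e]
      _ = _ := (d.commK hz kz).eq
  refine ⟨h, t, w, v, ⟨hh3, ht2, htt, hT2, hw2, ?_, hwtw, d.mul_self hv, hs3, d.commK hv k1,
    d.commK hv kw, d.commK hv kw1, d.commK k1 kw, htv, htv1, hmove v hv htv, hmove _ k1 htv1⟩,
    hh, ht, hw, hv, hv1⟩
  nth_rewrite 2 [← hwi]
  exact hwh

end H61.CritA6
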