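import Cfsg.Agent.H61.CritA6.Derive
import Cfsg.Agent.H64.AffineSL
import Cfsg.Agent.H40.GL2Count

/-! The isomorphism with `F₄² ⋊ SL₂(F₄)`. -/

set_option autoImplicit false
set_option maxRecDepth 10000

namespace H61.CritA6

variable {F : Type*} [Field F]

theorem char_two [Fintype F] (hF : Fintype.card F = 4) : CharP F 2 := by
  obtain ⟨p, hp⟩ := CharP.exists F
  haveI := hp
  obtain ⟨n, hp', hn⟩ := FiniteField.card F p
  have h4 : p ^ (n : ℕ) = 4 := hn.symm.trans hF
  have : p ∣ 2 ^ 2 := by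
    have h := dvd_pow_self p (Nat.pos_iff_ne_zero.1 n.2)
    norm_num
    exact h4 ▸ h
  rwa [(Nat.prime_dvd_prime_iff_eq hp' Nat.prime_two).1 (hp'.dvd_of_dvd_pow this)] at hp

theorem exists_omega [Fintype F] (hF : Fintype.card F = 4) : ∃ u : F, u ^ 2 + u + 1 = 0 := by
  classical
  obtain ⟨u, -, hu⟩ := Finset.exists_mem_notMem_of_card_lt_card
    (s := ({0, 1} : Finset F)) (t := Finset.univ)
    (lt_of_le_of_lt Finset.card_le_two (by rw [Finset.card_univ, hF]; norm_num))
  simp only [Finset.mem_insert, Finset.mem_singleton, not_or] at hu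
  have h4 : u ^ 4 = u := hF ▸ FiniteField.pow_card u
  have hf : u * ((u - 1) * (u ^ 2 + u + 1)) = 0 := by linear_combination h4
  exact ⟨u, by simpa [hu.1, sub_eq_zero, hu.2] using hf⟩

set_option maxHeartbeats 2000000 in
/-- A group of affine matrices satisfying the relations, the translation being nontrivial. -/
theorem affine_rel [Fintype F] (hF : Fintype.card F = 4) :
    ∃ h t w v : H64.affSL F, Rel h t w v ∧ v ≠ 1 := by
  haveI := char_two hF
  obtain ⟨u, hu⟩ := exists_omega hF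
  have h2 : (2 : F) = 0 := CharTwo.two_eq_zero
  have h3 : u ^ 3 = 1 := by linear_combination (u - 1) * hu
  let H : H64.affSL F := ⟨⟨!![u, 0, 0; 0, u ^ 2, 0; 0, 0, 1], by
    simp [Matrix.det_fin_three]; linear_combination h3⟩, by show _ ∧ _ ∧ _; simp⟩
  let T : H64.affSL F := ⟨⟨!![1, 1, 0; 0, 1, 0; 0, 0, 1], by
    simp [Matrix.det_fin_three]⟩, by show _ ∧ _ ∧ _; simp⟩
  let W : H64.affSL F := ⟨⟨!![0, 1, 0; 1, 0, 0; 0, 0, 1], by
    simp [Matrix.det_fin_three, CharTwo.neg_eq]⟩, by show _ ∧ _ ∧ _; simp⟩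
  let V : H64.affSL F := ⟨⟨!![1, 0, 1; 0, 1, 0; 0, 0, 1], by
    simp [Matrix.det_fin_three]⟩, by show _ ∧ _ ∧ _; simp⟩
  let m : H64.affSL F → Matrix (Fin 3) (Fin 3) F := fun g => g.1.1
  have hmul : ∀ a b : H64.affSL F, m (a * b) = m a * m b := fun a b => rfl
  have hext : ∀ a b : H64.affSL F, m a = m b → a = b := fun a b e => Subtype.ext (Subtype.ext e)
  have hone : m 1 = 1 := rfl
  have hHi : H⁻¹ = H * H := by
    apply inv_eq_of_mul_eq_one_right
    apply hext
    rw [hmul, hmul, hone]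
    simp only [m, H, Matrix.mul_fin_three]
    ext i j
    fin_cases i <;> fin_cases j <;> simp <;> grind
  refine ⟨H, T, W, V, ?_, ?_⟩
  · constructor <;> (try unfold Commute SemiconjBy) <;> (try rw [pow_three]) <;> apply hext <;>
      simp only [hHi, hmul, hone] <;> simp only [m, H, T, W, V, Matrix.mul_fin_three] <;>
      ext i j <;> fin_cases i <;> fin_cases j <;> simp <;> grind
  · intro e
    have := congrArg (fun g => m g 0 2) e
    simp [m, V] at this

theorem card_affine [Fintype F] (hF : Fintype.card F = 4) : Nat.card (H64.affSL F) ≤ 960 := by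
  haveI : Finite F := Finite.of_fintype F
  let f : H64.affSL F → Matrix.SpecialLinearGroup (Fin 2) F × (F × F) := fun g =>
    (⟨!![g.1.1 0 0, g.1.1 0 1; g.1.1 1 0, g.1.1 1 1], by
      obtain ⟨⟨M, hd⟩, h0, h1, h2⟩ := g
      simp only at h0 h1 h2
      rw [Matrix.det_fin_three, h0, h1, h2] at hd
      simp [Matrix.det_fin_two]; linear_combination hd⟩, g.1.1 0 2, g.1.1 1 2)
  have hf : Function.Injective f := by
    rintro ⟨⟨M, hd⟩, h0, h1, h2⟩ ⟨⟨N, hd'⟩, k0, k1, k2⟩ e
    simp only at h0 h1 h2 k0 k1 k2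
    have e1' := congrArg (fun p => (Prod.fst p : Matrix.SpecialLinearGroup (Fin 2) F).1) e
    have e2 := congrArg (fun p => p.2.1) e
    have e3 := congrArg (fun p => p.2.2) e
    simp only [f] at e1' e2 e3
    have a00 := congrFun (congrFun e1' 0) 0
    have a01 := congrFun (congrFun e1' 0) 1
    have a10 := congrFun (congrFun e1' 1) 0
    have a11 := congrFun (congrFun e1' 1) 1
    simp at a00 a01 a10 a11
    refine Subtype.ext (Subtype.ext ?_)
    ext i j
    fin_cases i <;> fin_cases j <;> simp_all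
  refine le_trans (Nat.card_le_card_of_injective f hf) ?_
  rw [Nat.card_prod, Nat.card_prod, H40.card_SL2, Nat.card_eq_fintype_card, hF]
  norm_num

variable {G : Type*} [Group G] [Finite G]

theorem Data.ker_normal_top (d : Data G) (M : Subgroup G) (hM : M.Normal) (hne : M ≠ ⊥)
    (hdis : M ⊓ d.π.ker = ⊥) : False := by
  haveI : IsSimpleGroup A5 := alternatingGroup.isSimpleGroup (by simp)
  have hmap : (M.map d.π).Normal := hM.map _ d.surj
  rcases hmap.eq_bot_or_eq_top with hb | ht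
  · apply hne
    rw [eq_bot_iff, ← hdis]
    exact le_inf le_rfl ((Subgroup.map_eq_bot_iff _).1 hb)
  · obtain ⟨fh3, fh1, -⟩ := a5_facts
    have : aH ∈ M.map d.π := ht ▸ Subgroup.mem_top _
    obtain ⟨g, hg, he⟩ := this
    obtain ⟨x, hx, hx1⟩ := (Subgroup.ne_bot_iff_exists_ne_one.1 d.ne).imp'
      (p := fun x => x ≠ 1) (q := fun x : G => x ∈ d.π.ker ∧ x ≠ 1) (fun x => x.1)
      (fun a ha => ⟨a.2, fun e => ha (Subtype.ext e)⟩)
    apply hx1
    refine d.fpf (g := g) (he ▸ fh3) (he ▸ fh1) hx ?_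
    exact Subgroup.commute_of_normal_of_disjoint M d.π.ker hM (MonoidHom.normal_ker _)
      (disjoint_iff.2 hdis) g x hg hx

theorem Data.generate (d : Data G)
    (hmin : ∀ M : Subgroup G, M.Normal → M ≤ d.π.ker → M = ⊥ ∨ M = d.π.ker) {h t w v : G} (r : Rel h t w v) (hh : d.π h = aH)
    (ht : d.π t = aT) (hw : d.π w = aW) (hv : v ∈ d.π.ker) (hv1 : v ≠ 1) :
    Subgroup.closure ({h, t, w, v} : Set G) = ⊤ := by
  set D := Subgroup.closure ({h, t, w, v} : Set G) with hD
  have hm : ∀ x ∈ ({h, t, w, v} : Set G), x ∈ D := fun x hx => Subgroup.subset_closure hx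
  have hsur : D.map d.π = ⊤ := by
    have hgen : Subgroup.closure ({aH, aT, aW} : Set A5) = ⊤ := by
      haveI : IsSimpleGroup A5 := alternatingGroup.isSimpleGroup (by simp)
      set K := Subgroup.closure ({aH, aT, aW} : Set A5)
      have h1 : aH ∈ K := Subgroup.subset_closure (by simp)
      have h2 : aT ∈ K := Subgroup.subset_closure (by simp)
      have h3 : aW ∈ K := Subgroup.subset_closure (by simp)
      have f5 : (aW * aT * aH) ^ 5 = 1 ∧ aW * aT * aH ≠ 1 := by decide +kernel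
      obtain ⟨fh3, fh1, ft1, ftt, -⟩ := a5_facts
      have hdvd : ∀ (p : ℕ), p.Prime → ∀ x ∈ K, x ^ p = 1 → x ≠ 1 → p ∣ Nat.card K := by
        intro p hp x hx hxp hx1
        haveI := Fact.mk hp
        rw [← orderOf_eq_prime hxp hx1]
        exact Subgroup.orderOf_dvd_natCard K hx
      have d2 := hdvd 2 Nat.prime_two aT h2 (by rw [pow_two]; exact ftt) ft1
      have d3 := hdvd 3 Nat.prime_three aH h1 fh3 fh1
      have d5 := hdvd 5 (by norm_num) _ (mul_mem (mul_mem h3 h2) h1) f5.1 f5.2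
      have d30 : 30 ∣ Nat.card K :=
        Nat.Coprime.mul_dvd_of_dvd_of_dvd (m := 6) (n := 5) (by norm_num)
          (Nat.Coprime.mul_dvd_of_dvd_of_dvd (m := 2) (n := 3) (by norm_num) d2 d3) d5
      have h60 : Nat.card A5 = 60 := by rw [Nat.card_eq_fintype_card]; decide +kernel
      have hi := Subgroup.card_mul_index K
      rw [h60] at hi
      obtain ⟨c, hc⟩ := d30
      rw [hc] at hi
      have hc2 : c * K.index = 2 := by
        rw [mul_assoc] at hi; omega
      have hle2 : K.index ∣ 2 := ⟨c, by rw [mul_comm, hc2]⟩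
      rcases (Nat.dvd_prime Nat.prime_two).1 hle2 with h | h
      · exact Subgroup.index_eq_one.1 h
      · have hn := Subgroup.normal_of_index_eq_two h
        rcases hn.eq_bot_or_eq_top with hb | ht'
        · exact absurd ((Subgroup.eq_bot_iff_forall _).1 hb aH h1) fh1
        · exact ht'
    rw [eq_top_iff, ← hgen, Subgroup.closure_le]
    rintro x (rfl | rfl | rfl)
    exacts [⟨h, hm h (by simp), hh⟩, ⟨t, hm t (by simp), ht⟩, ⟨w, hm w (by simp), hw⟩]
  have hlift : ∀ g : G, ∃ k ∈ D, ∃ n ∈ d.π.ker, g = n * k := by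
    intro g
    have : d.π g ∈ D.map d.π := hsur ▸ Subgroup.mem_top _
    obtain ⟨k, hk, he⟩ := this
    exact ⟨k, hk, g * k⁻¹, by rw [MonoidHom.mem_ker, map_mul, map_inv, he, mul_inv_cancel], by group⟩
  have hnorm : (D ⊓ d.π.ker).Normal := by
    refine ⟨fun x hx g => ?_⟩
    obtain ⟨k, hk, n, hn, rfl⟩ := hlift g
    have hc : k * x * k⁻¹ ∈ D ⊓ d.π.ker :=
      ⟨D.mul_mem (D.mul_mem hk hx.1) (D.inv_mem hk), d.norm_ker k hx.2⟩
    have e : n * k * x * (n * k)⁻¹ = k * x * k⁻¹ := by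
      calc n * k * x * (n * k)⁻¹ = n * (k * x * k⁻¹) * n⁻¹ := by group
        _ = k * x * k⁻¹ := by rw [(d.commK hn hc.2).eq, mul_inv_cancel_right]
    rw [e]; exact hc
  rcases hmin _ hnorm inf_le_right with hb | hk
  · exact absurd ((Subgroup.eq_bot_iff_forall _).1 hb v ⟨hm v (by simp), hv⟩) hv1
  · rw [eq_top_iff]
    intro g _
    obtain ⟨k, hk', n, hn, rfl⟩ := hlift g
    have : n ∈ D ⊓ d.π.ker := by rw [hk]; exact hn
    exact mul_mem this.1 hk'

theorem Data.card_ker (d : Data G) : 16 ≤ Nat.card d.π.ker := by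
  obtain ⟨h, t, w, v, r, hh, ht, hw, hv, hv1⟩ := d.exists_rel
  obtain ⟨fh3, fh1, -⟩ := a5_facts
  set v1 := h * v * h⁻¹ with hv1d
  have k1 : v1 ∈ d.π.ker := d.norm_ker h hv
  have kw : w * v * w ∈ d.π.ker := by simpa [r.w_inv] using d.norm_ker w hv
  have kw1 : w * v1 * w ∈ d.π.ker := by simpa [r.w_inv] using d.norm_ker w k1
  let S1 := Subgroup.zpowers v
  let S2 := S1 ⊔ Subgroup.zpowers v1
  let S3 := S2 ⊔ Subgroup.zpowers (w * v * w)
  have hs1 : ∀ x ∈ S1, x = 1 ∨ x = v := by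
    intro x hx
    obtain ⟨m, rfl⟩ := Subgroup.mem_zpowers_iff.1 hx
    rcases Int.even_or_odd m with ⟨j, rfl⟩ | ⟨j, rfl⟩
    · left; rw [← two_mul, zpow_mul, zpow_two, r.v2, one_zpow]
    · right; rw [zpow_add_one, zpow_mul, zpow_two, r.v2, one_zpow, one_mul]
  have hl1 : S1 ≤ d.π.ker := Subgroup.zpowers_le.2 hv
  have hn1 : v1 ∉ S1 := fun hmem => by
    rcases hs1 _ hmem with e | e
    · exact hv1 (by rw [hv1d] at e; exact conj_eq_one_iff.1 e)
    · exact hv1 (d.fpf (g := h) (hh ▸ fh3) (hh ▸ fh1) hv (mul_inv_eq_iff_eq_mul.1 e))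
  let C : Subgroup G := Subgroup.centralizer {t}
  have hC : ∀ x, x ∈ C ↔ t * x = x * t := fun x => by
    simp [C, Subgroup.mem_centralizer_iff]
  have hl2 : S2 ≤ C ⊓ d.π.ker := sup_le
    (Subgroup.zpowers_le.2 ⟨(hC v).2 r.tv.eq, hv⟩) (Subgroup.zpowers_le.2 ⟨(hC v1).2 r.tv1.eq, k1⟩)
  have hn2 : w * v * w ∉ S2 := fun hmem => by
    have e := (hC _).1 (hl2 hmem).1
    have e' := r.tvw
    rw [e, mul_assoc, r.t2, mul_one] at e'
    exact hv1 (mul_eq_left.1 e'.symm)
  let R : Subgroup G :=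
    { carrier := {x | x ∈ d.π.ker ∧ t * x * t * x ∈ S1}
      one_mem' := ⟨one_mem _, by simp [r.t2, S1]⟩
      mul_mem' := by
        rintro a b ⟨ha, ha'⟩ ⟨hb, hb'⟩
        refine ⟨mul_mem ha hb, ?_⟩
        have k : t * b * t ∈ d.π.ker := by simpa [r.t_inv] using d.norm_ker t hb
        have e : t * (a * b) * t * (a * b) = (t * a * t * a) * (t * b * t * b) := by
          calc t * (a * b) * t * (a * b) = t * a * (t * t) * b * t * (a * b) := by rw [r.t2]; group
            _ = t * a * t * ((t * b * t) * a) * b := by group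
            _ = _ := by rw [(d.commK k ha).eq]; group
        rw [e]; exact mul_mem ha' hb'
      inv_mem' := by
        rintro a ⟨ha, ha'⟩
        rw [d.inv_eq ha]; exact ⟨ha, ha'⟩ }
  have hl3 : S3 ≤ R := by
    refine sup_le (sup_le ?_ ?_) ?_ <;> refine Subgroup.zpowers_le.2 ⟨?_, ?_⟩
    · exact hv
    · rw [r.tv.eq, mul_assoc v, r.t2, mul_one, r.v2]; exact one_mem _
    · exact k1
    · rw [r.tv1.eq, mul_assoc _ t t, r.t2, mul_one, d.mul_self k1]; exact one_mem _
    · exact kw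
    · rw [r.tvw, mul_assoc, (d.commK hv kw).eq, ← mul_assoc, d.mul_self kw, one_mul]
      exact Subgroup.mem_zpowers _
  have hn3 : w * v1 * w ∉ S3 := fun hmem => by
    have e := (hl3 hmem).2
    rw [r.tvw1, ← hv1d, mul_assoc, (d.commK k1 kw1).eq, ← mul_assoc, d.mul_self kw1, one_mul] at e
    exact hn1 e
  have dbl : ∀ A B : Subgroup G, A ≤ B → ∀ x ∈ B, x ∉ A → 2 * Nat.card A ≤ Nat.card B := by
    intro A B hAB x hx hxA
    have hlt : Nat.card A < Nat.card B := lt_of_le_of_ne (Subgroup.card_le_of_le hAB)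
      fun e => hxA (by rw [Subgroup.eq_of_le_of_card_ge hAB e.ge]; exact hx)
    obtain ⟨c, hc⟩ := Subgroup.card_dvd_of_le hAB
    rw [hc] at hlt ⊢
    have : 2 ≤ c := by
      rcases c with _ | _ | c
      · simp at hlt
      · simp at hlt
      · omega
    rw [mul_comm 2]; exact Nat.mul_le_mul_left _ this
  have b1 := dbl ⊥ S1 bot_le v (Subgroup.mem_zpowers v) (by simpa using hv1)
  have b2 := dbl S1 S2 le_sup_left v1 (Subgroup.mem_sup_right (Subgroup.mem_zpowers _)) hn1
  have b3 := dbl S2 S3 le_sup_left _ (Subgroup.mem_sup_right (Subgroup.mem_zpowers _)) hn2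
  have b4 := dbl S3 d.π.ker (hl3.trans fun x hx => hx.1) _ kw1 hn3
  rw [Subgroup.card_bot] at b1
  omega

theorem Data.iso_affine [Fintype F] (hF : Fintype.card F = 4) (d : Data G)
    (hmin : ∀ M : Subgroup G, M.Normal → M ≤ d.π.ker → M = ⊥ ∨ M = d.π.ker) :
    Nonempty (G ≃* H64.affSL F) := by
  classical
  haveI : Finite F := Finite.of_fintype F
  obtain ⟨h, t, w, v, r, hh, ht, hw, hv, hv1⟩ := d.exists_rel
  obtain ⟨H, T, W, V, R, hV⟩ := affine_rel hF
  have hG : 960 ≤ Nat.card G := by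
    have e := Subgroup.card_eq_card_quotient_mul_card_subgroup d.π.ker
    rw [Nat.card_congr (QuotientGroup.quotientKerEquivOfSurjective d.π d.surj).toEquiv] at e
    have h60 : Nat.card A5 = 60 := by rw [Nat.card_eq_fintype_card]; decide +kernel
    rw [h60] at e
    have := d.card_ker
    omega
  -- the pairs satisfy the relations
  have RP : Rel ((h, H) : G × H64.affSL F) (t, T) (w, W) (v, V) := by
    constructor <;> (try unfold Commute SemiconjBy) <;> apply Prod.ext
    exacts [r.h3, R.h3, r.t2, R.t2, r.tt.eq, R.tt.eq, r.ht1, R.ht1, r.w2, R.w2, r.whw, R.whw,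
      r.wtw, R.wtw, r.v2, R.v2, r.hv1, R.hv1, r.cv1.eq, R.cv1.eq, r.cvw.eq, R.cvw.eq,
      r.cvw1.eq, R.cvw1.eq, r.cv1w.eq, R.cv1w.eq, r.tv.eq, R.tv.eq, r.tv1.eq, R.tv1.eq,
      r.tvw, R.tvw, r.tvw1, R.tvw1]
  set D := Subgroup.closure ({(h, H), (t, T), (w, W), (v, V)} : Set (G × H64.affSL F)) with hD
  have hcardD : Nat.card D ≤ 960 := RP.card_le
  let p : D →* G := (MonoidHom.fst G _).comp D.subtype
  have hp : Function.Surjective p := by
    rw [← MonoidHom.range_eq_top]
    rw [MonoidHom.range_comp, Subgroup.range_subtype, hD, MonoidHom.map_closure]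
    rw [Set.image_insert_eq, Set.image_insert_eq, Set.image_insert_eq, Set.image_singleton]
    exact d.generate hmin r hh ht hw hv hv1
  have hpi : Function.Bijective p := by
    refine ⟨?_, hp⟩
    have hle : Nat.card D ≤ Nat.card G := hcardD.trans hG
    exact ((Nat.bijective_iff_surjective_and_card p).2 ⟨hp, le_antisymm hle (Nat.card_le_card_of_surjective p hp)⟩).1
  let e := MulEquiv.ofBijective p hpi
  let φ : G →* H64.affSL F := ((MonoidHom.snd G _).comp D.subtype).comp e.symm.toMonoidHom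
  have hφv : φ v = V := by
    have : e.symm v = ⟨(v, V), Subgroup.subset_closure (by simp)⟩ := by
      rw [MulEquiv.symm_apply_eq]; rfl
    show ((e.symm v : D) : G × H64.affSL F).2 = V
    rw [this]
  have hker : φ.ker = ⊥ := by
    by_contra hne
    rcases hmin (φ.ker ⊓ d.π.ker) inferInstance inf_le_right with hb | hk
    · exact d.ker_normal_top φ.ker (MonoidHom.normal_ker φ) hne hb
    · have : v ∈ φ.ker ⊓ d.π.ker := by rw [hk]; exact hv
      exact hV (hφv ▸ MonoidHom.mem_ker.1 this.1)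
  have hinj : Function.Injective φ := (MonoidHom.ker_eq_bot_iff φ).1 hker
  have hc : Nat.card (H64.affSL F) ≤ Nat.card G := (card_affine hF).trans hG
  have hbij : Function.Bijective φ :=
    (Nat.bijective_iff_injective_and_card φ).2 ⟨hinj, le_antisymm (Nat.card_le_card_of_injective φ hinj) hc⟩
  exact ⟨MulEquiv.ofBijective φ hbij⟩

theorem Data.order_four (d : Data G) : ∃ g : G, orderOf g = 4 := by
  obtain ⟨h, t, w, v, r, -, -, -, -, hv1⟩ := d.exists_rel
  refine ⟨t * (w * v * w), ?_⟩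
  have e2 : (t * (w * v * w)) ^ 2 = v := by
    rw [pow_two, ← mul_assoc, r.tvw]
    calc w * v * w * v * (w * v * w) = w * v * w * (w * v * w) * v := by
          rw [mul_assoc _ v, r.cvw.eq, ← mul_assoc]
      _ = w * v * (w * w) * v * w * v := by group
      _ = v := by rw [r.w2, mul_one, mul_assoc w v v, r.v2, mul_one, r.w2, one_mul]
  haveI := Fact.mk Nat.prime_two
  exact orderOf_eq_prime_pow (p := 2) (n := 1) (by rw [pow_one, e2]; exact hv1)
    (by show _ ^ (2 ^ 2) = 1; rw [show (2 : ℕ) ^ 2 = 2 * 2 by norm_num, pow_mul, e2, pow_two, r.v2])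

end H61.CritA6
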