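import Mathlib

/-! Elements `h, t, w, v` satisfying the relations of `F₄² ⋊ SL₂(F₄)` generate a group of order
at most 960. -/

set_option autoImplicit false

namespace H61.CritA6

variable {X : Type*} [Group X]

/-- Relations of the diagonal, unipotent, Weyl and translation elements of `F₄² ⋊ SL₂(F₄)`. -/
structure Rel (h t w v : X) : Prop where
  h3 : h ^ 3 = 1
  t2 : t * t = 1
  tt : Commute t (h * t * h⁻¹)
  ht1 : h * (h * t * h⁻¹) * h⁻¹ = t * (h * t * h⁻¹)
  w2 : w * w = 1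
  whw : w * h * w = h⁻¹
  wtw : w * t * w = t * w * t
  v2 : v * v = 1
  hv1 : h * (h * v * h⁻¹) * h⁻¹ = v * (h * v * h⁻¹)
  cv1 : Commute v (h * v * h⁻¹)
  cvw : Commute v (w * v * w)
  cvw1 : Commute v (w * (h * v * h⁻¹) * w)
  cv1w : Commute (h * v * h⁻¹) (w * v * w)
  tv : Commute t v
  tv1 : Commute t (h * v * h⁻¹)
  tvw : t * (w * v * w) * t = (w * v * w) * v
  tvw1 : t * (w * (h * v * h⁻¹) * w) * t = (w * (h * v * h⁻¹) * w) * (h * v * h⁻¹)

theorem Rel.h_inv {h t w v : X} (r : Rel h t w v) : h⁻¹ = h * h :=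
  inv_eq_of_mul_eq_one_right (by rw [← r.h3, pow_succ, pow_two, mul_assoc])

theorem Rel.t_inv {h t w v : X} (r : Rel h t w v) : t⁻¹ = t := inv_eq_of_mul_eq_one_right r.t2

theorem Rel.w_inv {h t w v : X} (r : Rel h t w v) : w⁻¹ = w := inv_eq_of_mul_eq_one_right r.w2

theorem Rel.v_inv {h t w v : X} (r : Rel h t w v) : v⁻¹ = v := inv_eq_of_mul_eq_one_right r.v2

/-- The four translations. -/
def vec (h w v : X) : Fin 4 → X := ![v, h * v * h⁻¹, w * v * w, w * (h * v * h⁻¹) * w]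

/-- The four upper unitriangular elements. -/
def uu (h t : X) : Fin 4 → X := ![1, t, h * t * h⁻¹, t * (h * t * h⁻¹)]

/-- The subgroup of translations. -/
def N0 (h w v : X) : Subgroup X := Subgroup.closure (Set.range (vec h w v))

variable {h t w v : X}

theorem vec_mem (i : Fin 4) : vec h w v i ∈ N0 h w v := Subgroup.subset_closure ⟨i, rfl⟩

theorem Rel.ea (r : Rel h t w v) : h * w = w * h⁻¹ := by
  rw [← r.whw, ← mul_assoc, ← mul_assoc, r.w2, one_mul]

theorem Rel.eb (r : Rel h t w v) : h⁻¹ * w = w * h := by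
  calc h⁻¹ * w = w * h * w * w := by rw [r.whw]
    _ = w * h := by rw [mul_assoc, r.w2, mul_one]

theorem Rel.h_conj_w (r : Rel h t w v) (x : X) : h * (w * x * w) * h⁻¹ = w * (h⁻¹ * x * h) * w := by
  have e : w * h⁻¹ = h * w := r.ea.symm
  calc h * (w * x * w) * h⁻¹ = (h * w) * x * (w * h⁻¹) := by group
    _ = (w * h⁻¹) * x * (h * w) := by rw [r.ea, e]
    _ = _ := by group

theorem Rel.hh_inv (r : Rel h t w v) : (h * h)⁻¹ = h := by rw [← r.h_inv, inv_inv]

theorem Rel.hinv_v (r : Rel h t w v) : h⁻¹ * v * h = v * (h * v * h⁻¹) := by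
  rw [← r.hv1]
  calc h⁻¹ * v * h = (h * h) * v * (h * h)⁻¹ := by rw [r.hh_inv, r.h_inv]
    _ = _ := by group

theorem Rel.vec_sq (r : Rel h t w v) (i : Fin 4) : vec h w v i ^ 2 = 1 := by
  have e1 : (h * v * h⁻¹) * (h * v * h⁻¹) = 1 := by
    rw [show (h * v * h⁻¹) * (h * v * h⁻¹) = h * (v * v) * h⁻¹ by group, r.v2]; group
  fin_cases i <;> simp only [vec, sq] <;> simp
  · exact r.v2
  · exact r.v2
  · rw [show w * v * w * (w * v * w) = w * v * (w * w) * v * w by group, r.w2, mul_one,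
      show w * v * v * w = w * (v * v) * w by group, r.v2, mul_one, r.w2]
  · rw [show w * (h * v * h⁻¹) * w * (w * (h * v * h⁻¹) * w) =
      w * (h * v * h⁻¹) * (w * w) * (h * v * h⁻¹) * w by group, r.w2, mul_one,
      show w * (h * v * h⁻¹) * (h * v * h⁻¹) * w = w * ((h * v * h⁻¹) * (h * v * h⁻¹)) * w by group,
      e1, mul_one, r.w2]

theorem Rel.w_conj_mul (r : Rel h t w v) (a b : X) : w * (a * b) * w = (w * a * w) * (w * b * w) := by
  rw [show w * a * w * (w * b * w) = w * a * (w * w) * b * w by group, r.w2]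
  group

theorem Rel.vec_comm (r : Rel h t w v) (i j : Fin 4) : Commute (vec h w v i) (vec h w v j) := by
  have c23 : Commute (w * v * w) (w * (h * v * h⁻¹) * w) := by
    unfold Commute SemiconjBy
    rw [← r.w_conj_mul, ← r.w_conj_mul, r.cv1.eq]
  have c13 : Commute (h * v * h⁻¹) (w * (h * v * h⁻¹) * w) := by
    have c' : Commute (h * v * h⁻¹) (h * (w * v * w) * h⁻¹) := by
      unfold Commute SemiconjBy
      rw [show h * v * h⁻¹ * (h * (w * v * w) * h⁻¹) = h * (v * (w * v * w)) * h⁻¹ by group,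
        r.cvw.eq]
      group
    rw [r.h_conj_w, r.hinv_v, r.w_conj_mul] at c'
    have := (r.cv1w.inv_right).mul_right c'
    rwa [inv_mul_cancel_left] at this
  fin_cases i <;> fin_cases j <;>
    first
    | exact Commute.refl _
    | exact r.cv1
    | exact r.cv1.symm
    | exact r.cvw
    | exact r.cvw.symm
    | exact r.cvw1
    | exact r.cvw1.symm
    | exact r.cv1w
    | exact r.cv1w.symm
    | exact c13
    | exact c13.symm
    | exact c23
    | exact c23.symm

theorem Rel.card_N0 [Finite X] (r : Rel h t w v) : Nat.card (N0 h w v) ≤ 16 := by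
  let H : Fin 4 → Subgroup X := fun i => Subgroup.zpowers (vec h w v i)
  have hc : Pairwise fun i j => ∀ x y : X, x ∈ H i → y ∈ H j → Commute x y := by
    intro i j _ x y hx hy
    obtain ⟨m, rfl⟩ := Subgroup.mem_zpowers_iff.1 hx
    obtain ⟨n, rfl⟩ := Subgroup.mem_zpowers_iff.1 hy
    exact (r.vec_comm i j).zpow_zpow m n
  have hle : N0 h w v ≤ (Subgroup.noncommPiCoprod hc).range := by
    rw [Subgroup.noncommPiCoprod_range, N0, Subgroup.closure_le]
    rintro _ ⟨i, rfl⟩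
    exact Subgroup.mem_iSup_of_mem i (Subgroup.mem_zpowers _)
  refine le_trans (Subgroup.card_le_of_le hle) (le_trans ?_ (b := Nat.card (∀ i, H i)) ?_)
  · exact Nat.card_le_card_of_surjective _ (MonoidHom.rangeRestrict_surjective _)
  · rw [Nat.card_pi, Fin.prod_univ_four]
    have hi : ∀ i, Nat.card (H i) ≤ 2 := fun i => by
      rw [Nat.card_zpowers]
      exact orderOf_le_of_pow_eq_one two_pos (r.vec_sq i)
    calc _ ≤ 2 * 2 * 2 * 2 := by gcongr <;> exact hi _
      _ = 16 := by norm_num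

theorem Rel.norm_N0 (r : Rel h t w v) {g : X} (hg : g = h ∨ g = t ∨ g = w) :
    ∀ n ∈ N0 h w v, g * n * g⁻¹ ∈ N0 h w v := by
  have key : ∀ i, g * vec h w v i * g⁻¹ ∈ N0 h w v := by
    have m0 : v ∈ N0 h w v := vec_mem 0
    have m1 : h * v * h⁻¹ ∈ N0 h w v := vec_mem 1
    have m2 : w * v * w ∈ N0 h w v := vec_mem 2
    have m3 : w * (h * v * h⁻¹) * w ∈ N0 h w v := vec_mem 3
    have ea : h * w = w * h⁻¹ := by rw [← r.whw, ← mul_assoc, ← mul_assoc, r.w2, one_mul]
    rcases hg with rfl | rfl | rfl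
    · intro i
      fin_cases i <;> simp only [vec] <;> simp
      · simpa [mul_assoc] using m1
      · have : g * (g * v * g⁻¹) * g⁻¹ ∈ N0 g w v := by rw [r.hv1]; exact mul_mem m0 m1
        simpa [mul_assoc] using this
      · rw [r.h_conj_w, r.hinv_v, r.w_conj_mul]
        exact mul_mem m2 m3
      · rw [r.h_conj_w, show g⁻¹ * (g * v * g⁻¹) * g = v by group]
        exact m2
    · intro i
      rw [r.t_inv]
      fin_cases i <;> simp only [vec] <;> simp
      · rw [r.tv.eq, mul_assoc, r.t2, mul_one]; exact m0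
      · have : g * (h * v * h⁻¹) * g ∈ N0 h w v := by
          rw [r.tv1.eq, mul_assoc, r.t2, mul_one]; exact m1
        simpa [mul_assoc] using this
      · rw [r.tvw]; exact mul_mem m2 m0
      · rw [r.tvw1]; exact mul_mem m3 m1
    · intro i
      rw [r.w_inv]
      fin_cases i <;> simp only [vec] <;> simp
      · exact m2
      · simpa [mul_assoc] using m3
      · rw [show g * (g * v * g) * g = (g * g) * v * (g * g) by group, r.w2]; simpa using m0
      · rw [show g * (g * (h * v * h⁻¹) * g) * g = (g * g) * (h * v * h⁻¹) * (g * g) by group, r.w2]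
        simpa using m1
  intro n hn
  induction hn using Subgroup.closure_induction with
  | mem x hx => obtain ⟨i, rfl⟩ := hx; exact key i
  | one => simpa using one_mem _
  | mul a b _ _ ha hb =>
    rw [show g * (a * b) * g⁻¹ = (g * a * g⁻¹) * (g * b * g⁻¹) by group]; exact mul_mem ha hb
  | inv a _ ha =>
    rw [show g * a⁻¹ * g⁻¹ = (g * a * g⁻¹)⁻¹ by group]; exact inv_mem ha

/-- The Borel part. -/
def inB (h t x : X) : Prop := ∃ (a : Fin 4) (k : ℕ), x = uu h t a * h ^ k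

/-- The Bruhat normal form. -/
def inK (h t w x : X) : Prop := inB h t x ∨ ∃ (a : Fin 4) (b : X), inB h t b ∧ x = uu h t a * w * b

theorem Rel.h_uu (r : Rel h t w v) (a : Fin 4) : ∃ a', h * uu h t a = uu h t a' * h := by
  fin_cases a
  · exact ⟨0, by simp [uu]⟩
  · exact ⟨2, by simp [uu, mul_assoc]⟩
  · refine ⟨3, ?_⟩
    show h * (h * t * h⁻¹) = t * (h * t * h⁻¹) * h
    rw [← r.ht1]; group
  · refine ⟨1, ?_⟩
    show h * (t * (h * t * h⁻¹)) = t * h
    rw [← r.ht1, show h * (h * (h * t * h⁻¹) * h⁻¹) = h * (h * h) * t * (h * h)⁻¹ by group,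
      r.hh_inv, ← r.h_inv, mul_inv_cancel, one_mul]

theorem Rel.t_uu (r : Rel h t w v) (a : Fin 4) : ∃ a', t * uu h t a = uu h t a' := by
  fin_cases a
  · exact ⟨1, by simp [uu]⟩
  · exact ⟨0, by simp [uu, r.t2]⟩
  · exact ⟨3, rfl⟩
  · exact ⟨2, by show t * (t * (h * t * h⁻¹)) = h * t * h⁻¹; rw [← mul_assoc, r.t2, one_mul]⟩

theorem Rel.h_B (r : Rel h t w v) {b : X} (hb : inB h t b) : inB h t (h * b) := by
  obtain ⟨a, k, rfl⟩ := hb
  obtain ⟨a', ha'⟩ := r.h_uu a
  exact ⟨a', k + 1, by rw [← mul_assoc, ha', mul_assoc, pow_succ']⟩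

theorem Rel.hinv_B (r : Rel h t w v) {b : X} (hb : inB h t b) : inB h t (h⁻¹ * b) := by
  rw [r.h_inv, mul_assoc]; exact r.h_B (r.h_B hb)

theorem Rel.t_B (r : Rel h t w v) {b : X} (hb : inB h t b) : inB h t (t * b) := by
  obtain ⟨a, k, rfl⟩ := hb
  obtain ⟨a', ha'⟩ := r.t_uu a
  exact ⟨a', k, by rw [← mul_assoc, ha']⟩

theorem Rel.h_K (r : Rel h t w v) {x : X} (hx : inK h t w x) : inK h t w (h * x) := by
  rcases hx with hb | ⟨a, b, hb, rfl⟩
  · exact Or.inl (r.h_B hb)
  · obtain ⟨a', ha'⟩ := r.h_uu a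
    refine Or.inr ⟨a', h⁻¹ * b, r.hinv_B hb, ?_⟩
    have ea : h * w = w * h⁻¹ := by rw [← r.whw, ← mul_assoc, ← mul_assoc, r.w2, one_mul]
    rw [show h * (uu h t a * w * b) = h * uu h t a * w * b by group, ha',
      show uu h t a' * h * w * b = uu h t a' * (h * w) * b by group, ea]
    group

theorem Rel.t_K (r : Rel h t w v) {x : X} (hx : inK h t w x) : inK h t w (t * x) := by
  rcases hx with hb | ⟨a, b, hb, rfl⟩
  · exact Or.inl (r.t_B hb)
  · obtain ⟨a', ha'⟩ := r.t_uu a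
    exact Or.inr ⟨a', b, hb, by rw [← ha']; group⟩

theorem Rel.w_K (r : Rel h t w v) {x : X} (hx : inK h t w x) : inK h t w (w * x) := by
  have ea : h * w = w * h⁻¹ := by rw [← r.whw, ← mul_assoc, ← mul_assoc, r.w2, one_mul]
  have eb : h⁻¹ * w = w * h := by
    calc h⁻¹ * w = w * h * w * w := by rw [r.whw]
      _ = w * h := by rw [mul_assoc, r.w2, mul_one]
  have e3 : t * (h * t * h⁻¹) = h⁻¹ * t * h := by
    rw [← r.ht1, show h * (h * t * h⁻¹) * h⁻¹ = (h * h) * t * (h * h)⁻¹ by group, ← r.h_inv,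
      inv_inv]
  rcases hx with hb | ⟨a, b, hb, rfl⟩
  · exact Or.inr ⟨0, x, hb, by simp [uu]⟩
  · fin_cases a
    · exact Or.inl (by simpa [uu, ← mul_assoc, r.w2] using hb)
    · refine Or.inr ⟨1, t * b, r.t_B hb, ?_⟩
      show w * (t * w * b) = t * w * (t * b)
      rw [show w * (t * w * b) = w * t * w * b by group, r.wtw]; group
    · refine Or.inr ⟨3, h * (t * (h * b)), r.h_B (r.t_B (r.h_B hb)), ?_⟩
      show w * (h * t * h⁻¹ * w * b) = t * (h * t * h⁻¹) * w * (h * (t * (h * b)))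
      rw [e3, show w * (h * t * h⁻¹ * w * b) = w * h * t * (h⁻¹ * w) * b by group, eb, ← eb,
        eb, show w * h * t * (w * h) * b = (w * h) * (t * w) * h * b by group, ← eb,
        show h⁻¹ * w * (t * w) * h * b = h⁻¹ * (w * t * w) * h * b by group, r.wtw,
        show h⁻¹ * t * h * w * (h * (t * (h * b))) = h⁻¹ * t * (h * w * h) * t * h * b by group,
        ea, inv_mul_cancel_right]
      group
    · refine Or.inr ⟨2, h⁻¹ * (t * (h⁻¹ * b)), r.hinv_B (r.t_B (r.hinv_B hb)), ?_⟩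
      show w * (t * (h * t * h⁻¹) * w * b) = h * t * h⁻¹ * w * (h⁻¹ * (t * (h⁻¹ * b)))
      rw [e3, show w * (h⁻¹ * t * h * w * b) = (w * h⁻¹) * t * (h * w) * b by group, ea, ← ea,
        show h * w * t * (h * w) * b = (h * w) * t * (h * w) * b by group]
      conv_lhs => arg 1; arg 2; rw [ea]
      rw [show h * w * t * (w * h⁻¹) * b = h * (w * t * w) * h⁻¹ * b by group, r.wtw,
        show h * t * h⁻¹ * w * (h⁻¹ * (t * (h⁻¹ * b))) = h * t * (h⁻¹ * w * h⁻¹) * t * h⁻¹ * b by group,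
        eb, mul_inv_cancel_right]
      group

theorem Rel.card_le [Finite X] (r : Rel h t w v) :
    Nat.card (Subgroup.closure ({h, t, w, v} : Set X)) ≤ 960 := by
  classical
  set D := Subgroup.closure ({h, t, w, v} : Set X)
  let T : Set X := {x | ∃ n ∈ N0 h w v, ∃ k, inK h t w k ∧ x = n * k}
  have hgen : ∀ g x : X, (g = h ∨ g = t ∨ g = w) → x ∈ T → g * x ∈ T := by
    rintro g x hg ⟨n, hn, k, hk, rfl⟩
    refine ⟨g * n * g⁻¹, r.norm_N0 hg n hn, g * k, ?_, by group⟩
    rcases hg with rfl | rfl | rfl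
    exacts [r.h_K hk, r.t_K hk, r.w_K hk]
  have hv : ∀ x ∈ T, v * x ∈ T := by
    rintro x ⟨n, hn, k, hk, rfl⟩
    exact ⟨v * n, mul_mem (vec_mem 0) hn, k, hk, (mul_assoc _ _ _).symm⟩
  have hmem : ∀ x ∈ D, x ∈ T := by
    intro x hx
    induction hx using Subgroup.closure_induction_left with
    | one => exact ⟨1, one_mem _, 1, Or.inl ⟨0, 0, by simp [uu]⟩, by simp⟩
    | mul_left g hg y _ hy =>
      rcases hg with rfl | rfl | rfl | hg'
      · exact hgen _ y (Or.inl rfl) hy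
      · exact hgen _ y (Or.inr (Or.inl rfl)) hy
      · exact hgen _ y (Or.inr (Or.inr rfl)) hy
      · rw [Set.mem_singleton_iff.1 hg']; exact hv y hy
    | inv_mul_cancel g hg y _ hy =>
      rcases hg with rfl | rfl | rfl | hg'
      · rw [r.h_inv, mul_assoc]; exact hgen _ _ (Or.inl rfl) (hgen _ y (Or.inl rfl) hy)
      · rw [r.t_inv]; exact hgen _ y (Or.inr (Or.inl rfl)) hy
      · rw [r.w_inv]; exact hgen _ y (Or.inr (Or.inr rfl)) hy
      · rw [Set.mem_singleton_iff.1 hg', r.v_inv]; exact hv y hy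
  let f : (N0 h w v) × (Option (Fin 4) × Fin 4 × Fin 3) → X := fun p =>
    p.1.1 * ((p.2.1.elim 1 fun a => uu h t a * w) * (uu h t p.2.2.1 * h ^ (p.2.2.2 : ℕ)))
  have hsub : ∀ x : D, ∃ p, f p = x.1 := by
    intro x
    obtain ⟨n, hn, k, hk, he⟩ := hmem x.1 x.2
    have hmod : ∀ m : ℕ, h ^ m = h ^ ((⟨m % 3, Nat.mod_lt _ (by norm_num)⟩ : Fin 3) : ℕ) := fun m =>
      pow_eq_pow_mod m r.h3
    rcases hk with ⟨a, m, rfl⟩ | ⟨a, b, ⟨a', m, rfl⟩, rfl⟩
    · exact ⟨(⟨n, hn⟩, none, a, ⟨m % 3, Nat.mod_lt _ (by norm_num)⟩), by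
        simp only [f, Option.elim, one_mul, ← hmod, he]⟩
    · exact ⟨(⟨n, hn⟩, some a, a', ⟨m % 3, Nat.mod_lt _ (by norm_num)⟩), by
        simp only [f, Option.elim, ← hmod, he]⟩
  choose p hp using hsub
  have hinj : Function.Injective p := fun x y e => Subtype.ext (by rw [← hp x, ← hp y, e])
  refine le_trans (Nat.card_le_card_of_injective p hinj) ?_
  rw [Nat.card_prod]
  have h60 : Nat.card (Option (Fin 4) × Fin 4 × Fin 3) = 60 := by
    rw [Nat.card_eq_fintype_card]; rfl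
  rw [h60]
  calc _ ≤ 16 * 60 := Nat.mul_le_mul_right _ r.card_N0
    _ = 960 := by norm_num

end H61.CritA6
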